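import Cfsg.Agent.Lib.Fus.M22U.Checks

/-! Two apart members of the standard set and a line outside it through both perps. -/

set_option autoImplicit false
set_option maxRecDepth 100000
set_option maxHeartbeats 4000000

namespace Cfsg.Agent.Fus.M22U.Fixed

open Cfsg.Agent.Block.FischerTypes.U6Code

/-- Outside members orthogonal to the first two of the chain. -/
def outside : List ℕ := ptList.filter fun x => !(inW x) && adj x lev0.1 && adj x lev1.1

/-- Inside members orthogonal to the first. -/
def inside : List ℕ := w0List.filter fun x => adj x lev0.1

/-- Some inside member is on the line of both. -/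
def pairOk (l1 l2 : ℕ) : Bool :=
  inside.any fun x => onLine l1 l2 x

theorem pairs_ok : (outside.all fun l1 => outside.all fun l2 =>
    Nat.beq l1 l2 || !(adj l1 l2) || pairOk l1 l2) = true := by
  decide +kernel

end Cfsg.Agent.Fus.M22U.Fixed
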