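import Cfsg.Agent.Lib.Block.FischerTypes.M22Thompson.Checks

/-! The twenty-one lines of the plane, each with an outside point. -/

set_option autoImplicit false
set_option maxRecDepth 100000
set_option maxHeartbeats 4000000

namespace Cfsg.Agent.Fus.M22U.Fixed

open Cfsg.Agent.Block.FischerTypes.U6Code Cfsg.Agent.Block.FischerTypes.M22Thompson

/-- The lines. -/
def reps : List (ℕ × List ℕ) :=
  [(5, [2, 3, 6, 13, 16]),
    (17, [1, 4, 6, 9, 10]),
    (20, [0, 5, 6, 17, 20]),
    (129, [1, 3, 5, 12, 15]),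
    (149, [5, 7, 10, 11, 16]),
    (151, [5, 8, 9, 13, 14]),
    (257, [3, 7, 9, 17, 19]),
    (261, [3, 8, 10, 18, 20]),
    (267, [0, 3, 4, 11, 14]),
    (275, [0, 9, 15, 16, 18]),
    (279, [0, 10, 12, 13, 19]),
    (281, [4, 8, 12, 16, 17]),
    (285, [4, 7, 13, 15, 20]),
    (401, [6, 8, 11, 15, 19]),
    (403, [2, 10, 14, 15, 17]),
    (405, [2, 9, 11, 12, 20]),
    (407, [6, 7, 12, 14, 18]),
    (789, [2, 4, 5, 18, 19]),
    (1025, [1, 11, 13, 17, 18]),
    (1041, [1, 14, 16, 19, 20]),
    (1059, [0, 1, 2, 7, 8])]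

/-- An outside point. -/
def out (k : ℕ) : ℕ := (reps.getD k (0, [])).1

/-- The indices of its line. -/
def line (k : ℕ) : List ℕ := (reps.getD k (0, [])).2

theorem lines_ok : ((List.range 21).all fun k => isPt (out k) &&
    ((List.range 21).all fun i => !(Nat.beq (pl i) (out k)) && ((adj (out k) (pl i)) == (line k).any (Nat.beq i))) &&
    (List.range 21).all fun l => Nat.beq k l || Nat.ble ((line k).countP fun i => (line l).any (Nat.beq i)) 1) = true := by
  decide +kernel

theorem avoid_ok : ((List.range 21).all fun e =>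
    Nat.ble 16 ((List.range 21).countP fun k => !((line k).any (Nat.beq e)))) = true := by
  decide +kernel

end Cfsg.Agent.Fus.M22U.Fixed
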