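import Cfsg.Agent.Lib.Block.FischerTypes.M22Involutions

/-! A class of three-transpositions of a group of type M(22) is the standard one. -/

set_option autoImplicit false
open Cfsg Cfsg.Agent.Spor.ThreeTrans Cfsg.Agent.Block.FischerTypes

namespace Cfsg.Agent.Fus.M22U.Fixed

/-- Uniqueness of the class. -/
theorem class_unique {G : Type*} [Group G] [Finite G] {D : Set G} (C : Block.FischerTypes.M22.Ctx D)
    (D' : Set G) (hD' : Cfsg.IsThreeTranspositionClass D') : D' = D := by
  classical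
  have hN := Block.FischerTypes.M22.numbered_ctx C
  have h := C.set.cls
  obtain ⟨⟨hord', hprod'⟩, ⟨t, ht, hcls⟩, -⟩ := hD'
  have ht2 : orderOf t = 2 := hord' t ht
  obtain ⟨m, hm3, l, hl⟩ := Block.FischerTypes.M22.involution_short C
    (show t * t = 1 by rw [← pow_two, ← ht2]; exact pow_orderOf_eq_one t)
  have hm1 : 1 ≤ m := Nat.pos_of_ne_zero fun e => by
    subst e
    rw [← hl.2.2.2.2, List.eq_nil_of_length_eq_zero hl.2.1, List.prod_nil, orderOf_one] at ht2
    omega
  have inD' : ∀ {x : G} {k : List G}, Block.FischerTypes.Fact' D m x k → x ∈ D' := fun {x k} hk => by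
    rw [hcls]
    exact Block.FischerTypes.M22.classes C hm1 hm3 hl hk
  obtain ⟨a, ha, -⟩ := h.2.1
  obtain ⟨c, hc, hca⟩ := apart_nonempty C.set.hyp ha
  have hac : ¬ Commute a c := fun k => hca k.symm
  obtain ⟨b, hb⟩ := C.meets a ha c hc hac
  have hA : {u | u ∈ common D a c ∧ Commute b u}.ncard = 46 :=
    Block.FischerTypes.nbr_common C.set hN ha hc hac hb
  obtain ⟨f, ⟨hf, hbf⟩, hfb⟩ := Set.exists_ne_of_one_lt_ncard (s := {u | u ∈ common D a c ∧ Commute b u})
    (by omega) b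
  have hB : {u | u ∈ common D a c ∧ Commute b u ∧ Commute f u}.ncard = 14 :=
    Block.FischerTypes.nbr_both C.set hN ha hc hac hb hf hfb hbf
  obtain ⟨e, ⟨he, hbe, hfe⟩, heb⟩ : ∃ e ∈ {u | u ∈ common D a c ∧ Commute b u ∧ Commute f u}, e ∉ ({b, f} : Set G) :=
    Set.not_subset.mp fun k => by
      have := Set.ncard_le_ncard k
      have := Set.ncard_pair (Ne.symm hfb)
      omega
  simp only [Set.mem_insert_iff, Set.mem_singleton_iff, not_or] at heb
  have hbe' : b * e ≠ 1 := fun k => heb.1 (by rw [eq_inv_of_mul_eq_one_left k, inv_eq h.1 he.1.1])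
  have hfe' : f * e ≠ 1 := fun k => heb.2 (by rw [eq_inv_of_mul_eq_one_left k, inv_eq h.1 he.1.1])
  have hne : (a * c) ^ 2 ≠ 1 := fun k => hac (by
    rw [pow_two] at k
    have e := eq_inv_of_mul_eq_one_left k
    rwa [mul_inv_rev, inv_eq h.1 ha, inv_eq h.1 hc] at e)
  have h3 : (a * c) ^ 3 = 1 := (h.1.2 a ha c hc).resolve_left hne
  have h2 : ∀ {u v : G}, u ∈ D → v ∈ D → Commute u v → (u * v) ^ 2 = 1 := fun {u v} hu hv k => by
    rw [k.mul_pow, pow_two, pow_two, mul_self h.1 hu, mul_self h.1 hv, mul_one]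
  have bad : ∀ {x y z : G}, x ∈ D' → y ∈ D' → x * y = a * c * z → Commute (a * c) z → z ^ 2 = 1 → z ≠ 1 → False := by
    intro x y z hx hy exy k hz hz1
    rcases hprod' x hx y hy with e' | e'
    · rw [exy, k.mul_pow, hz, mul_one] at e'
      exact hne e'
    · rw [exy, k.mul_pow, h3, one_mul, pow_succ, hz, one_mul] at e'
      exact hz1 e'
  have cz : ∀ {u : G}, u ∈ common D a c → Commute (a * c) u := fun hu => hu.1.2.2.mul_left hu.2.2.2
  interval_cases m
  · have mem1 : ∀ {x : G} {k : List G}, Block.FischerTypes.Fact' D 1 x k → x ∈ D := fun {x k} hk => by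
      obtain ⟨u, rfl⟩ := List.length_eq_one_iff.mp hk.2.1
      obtain rfl : u = x := by simpa using hk.2.2.2.2
      exact hk.2.2.1 u (by simp)
    have htD := mem1 hl
    ext x
    constructor
    · intro hx
      rw [hcls] at hx
      obtain ⟨g, rfl⟩ := _root_.isConj_iff.mp hx
      exact conj_mem h g htD
    · exact fun hx => inD' (k := [x]) ⟨List.nodup_singleton x, rfl, by simp [hx], by simp, by simp⟩
  · exfalso
    have hx : a * b ∈ D' := inD' (k := [a, b]) ⟨by simp [Ne.symm hb.1.2.1], rfl, by simp [ha, hb.1.1],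
      by simp [hb.1.2.2, hb.1.2.2.symm], by simp⟩
    have hy : c * e ∈ D' := inD' (k := [c, e]) ⟨by simp [Ne.symm he.2.2.1], rfl, by simp [hc, he.1.1],
      by simp [he.2.2.2, he.2.2.2.symm], by simp⟩
    refine bad hx hy (z := b * e) ?_ ((cz hb).mul_right (cz he)) (h2 hb.1.1 he.1.1 hbe) hbe'
    rw [show a * b * (c * e) = a * (b * c) * e by simp [mul_assoc], hb.2.2.2.symm.eq]
    simp [mul_assoc]
  · exfalso
    have hx : a * b * f ∈ D' := inD' (k := [a, b, f]) ⟨by simp [Ne.symm hb.1.2.1, Ne.symm hf.1.2.1, Ne.symm hfb],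
      rfl, by simp [ha, hb.1.1, hf.1.1],
      by simp [hb.1.2.2, hb.1.2.2.symm, hf.1.2.2, hf.1.2.2.symm, hbf, hbf.symm], by simp [mul_assoc]⟩
    have hy : c * b * e ∈ D' := inD' (k := [c, b, e]) ⟨by simp [Ne.symm hb.2.2.1, Ne.symm he.2.2.1, Ne.symm heb.1],
      rfl, by simp [hc, hb.1.1, he.1.1],
      by simp [hb.2.2.2, hb.2.2.2.symm, he.2.2.2, he.2.2.2.symm, hbe, hbe.symm], by simp [mul_assoc]⟩
    refine bad hx hy (z := f * e) ?_ ((cz hf).mul_right (cz he)) (h2 hf.1.1 he.1.1 hfe) hfe'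
    have k1 : Commute (b * f) c := hb.2.2.2.symm.mul_left hf.2.2.2.symm
    calc a * b * f * (c * b * e) = a * ((b * f) * c) * b * e := by simp [mul_assoc]
      _ = a * (c * (b * f)) * b * e := by rw [k1.eq]
      _ = a * c * (b * (f * b)) * e := by simp [mul_assoc]
      _ = a * c * (b * (b * f)) * e := by rw [hbf.eq]
      _ = a * c * (f * e) := by rw [← mul_assoc b b f, mul_self h.1 hb.1.1, one_mul, mul_assoc]

end Cfsg.Agent.Fus.M22U.Fixed
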