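import Cfsg.Agent.Lib.Fus.M22U.Rigid
import Cfsg.Agent.Lib.Fus.M22U.Fixed.Checks
import Cfsg.Agent.Lib.Fus.M22U.Fixed.Lines
import Cfsg.Agent.Lib.Fus.M22U.Fixed.Unique
import Cfsg.Agent.Lib.Block.FischerTypes.M22Thompson.Main
import Mathlib.GroupTheory.Perm.Cycle.Type

/-! An automorphism of order two of a group of type M(22) fixes a transposition. -/

set_option autoImplicit false
set_option linter.style.haveILetI false
set_option linter.unusedSectionVars false
set_option maxRecDepth 20000

namespace Cfsg.Agent.Fus.M22U.Fixed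

open Cfsg Cfsg.Agent.Spor.ThreeTrans Cfsg.Agent.Block.FischerTypes Cfsg.Agent.Block.FischerTypes.U6Code

variable {G : Type*} [Group G] [Finite G] {D : Set G}

/-- Two commuting outside members both commuting with two apart members of the standard set span a line
meeting that set. -/
theorem meet_standard (C : M22.Ctx D) {a z y q u v : G} (ha : a ∈ D) (hz : z ∈ D) (haz : ¬ Commute a z)
    (hy : y ∈ common D a z) (hq : q ∈ common D a z) (hyq : ¬ Commute q y)
    (hu : u ∈ perp D a) (hv : v ∈ perp D a) (huv : Commute u v) (hne : u ≠ v)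
    (huz : ¬ Commute z u) (hvz : ¬ Commute z v)
    (huy : Commute u y) (huq : Commute u q) (hvy : Commute v y) (hvq : Commute v q) :
    ∃ x ∈ common D a z, Commute x y ∧ ∀ w ∈ perp D a, Commute w u → Commute w v → Commute w x := by
  obtain ⟨M0, hM0⟩ := exists_normal C ha hz haz
  obtain ⟨⟨⟨⟨hl0, hl1⟩, -⟩, -⟩, -⟩ := by
    have h := lev_ok
    simp only [Bool.and_eq_true] at h
    exact h
  obtain ⟨c, hc, ec⟩ := M0.surj y hy.1
  have hcc : c ∈ chainCand [] [] := List.mem_filter.2 ⟨(inW_iff hc).1 ((hM0 c hc).1 (ec ▸ hy)), by simp [chainNext, has]⟩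
  obtain ⟨M1, hM1, -, f0, p0⟩ := level C ha hz haz hl0 M0 hM0 (by simp) hcc
  rw [ec] at f0
  obtain ⟨d, hd, ed⟩ := M1.surj q hq.1
  have hdy : adj d lev0.1 = false := Bool.eq_false_iff.2 fun k => hyq (by
    have := (M1.comm d _ hd p0).2 k
    rwa [ed, f0] at this)
  have hdne : d ≠ lev0.1 := fun k => hyq (by
    rw [k, f0] at ed
    rw [ed])
  have hdc : d ∈ chainCand [lev0.1] [false] := List.mem_filter.2
    ⟨(inW_iff hd).1 ((hM1 d hd).1 (ed ▸ hq)), by simp [chainNext, has, beq_false hdne, hdy]⟩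
  obtain ⟨M, hM, k1, f1, p1⟩ := level C ha hz haz hl1 M1 hM1 (by simp [p0]) hdc
  rw [ed] at f1
  have g0 : M.pt lev0.1 = y := (k1 _ (by simp)).trans f0
  obtain ⟨i, hi, ei⟩ := M.surj u hu
  obtain ⟨j, hj, ej⟩ := M.surj v hv
  have out : ∀ {n : ℕ} {w : G}, isPt n = true → M.pt n = w → ¬ Commute z w → Commute w y → Commute w q →
      n ∈ outside := by
    intro n w hn e h1 h2 h3
    refine List.mem_filter.2 ⟨mem_ptList.2 hn, ?_⟩
    simp only [Bool.and_eq_true, Bool.not_eq_true']
    refine ⟨⟨Bool.eq_false_iff.2 fun k => h1 (e ▸ ((hM n hn).2 k).2.2.2), (M.comm n _ hn p0).1 ?_⟩,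
      (M.comm n _ hn p1).1 ?_⟩
    · rw [e, g0]; exact h2
    · rw [e, f1]; exact h3
  have hchk := pairs_ok
  simp only [List.all_eq_true, Bool.or_eq_true, Nat.beq_eq, Bool.not_eq_true'] at hchk
  rcases hchk i (out hi ei huz huy huq) j (out hj ej hvz hvy hvq) with (k | k) | k
  · exact absurd (ei.symm.trans (by rw [k, ej])) hne
  · refine absurd ((M.comm i j hi hj).1 ?_) (by simp [k])
    rw [ei, ej]; exact huv
  simp only [pairOk, List.any_eq_true] at k
  obtain ⟨x, hx, hline⟩ := k
  simp only [inside, List.mem_filter] at hx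
  obtain ⟨hxW, hxy⟩ := hx
  have hxp := w0_pt hxW
  refine ⟨M.pt x, (hM x hxp).2 ((inW_iff hxp).2 hxW), g0 ▸ (M.comm x _ hxp p0).2 hxy, fun w hw hwu hwv => ?_⟩
  obtain ⟨n, hn, en⟩ := M.surj w hw
  rw [← en]
  refine (M.comm n x hn hxp).2 (adj_onLine (lt_of_isPt hj) hline ?_ ?_)
  · refine (M.comm n i hn hi).1 ?_
    rw [en, ei]; exact hwu
  · refine (M.comm n j hn hj).1 ?_
    rw [en, ej]; exact hwv

/-- An automorphism stabilises the transpositions. -/
theorem map_mem (C : M22.Ctx D) (φ : MulAut G) {x : G} (hx : x ∈ D) : φ x ∈ D := by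
  have h := class_unique C _ (class_image φ C.set.cls)
  exact h ▸ Set.mem_image_of_mem φ hx

/-- An automorphism of order two fixes a transposition. -/
theorem exists_fixed (C : M22.Ctx D) (φ : MulAut G) (hφ : φ * φ = 1) : ∃ d ∈ D, φ d = d := by
  classical
  by_contra hno
  push Not at hno
  have h := C.set.cls
  have inv : ∀ x, φ (φ x) = x := fun x => by
    rw [← MulAut.mul_apply, hφ, MulAut.one_apply]
  have com : ∀ {d}, d ∈ D → Commute d (φ d) := by
    intro d hd
    rcases h.1.2 d hd (φ d) (map_mem C φ hd) with k | k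
    · exact commute_of_sq h hd (map_mem C φ hd) k
    refine absurd ?_ (hno _ (conj_mem h d (map_mem C φ hd)))
    have hd2 := inv_eq h.1 hd
    have he2 := inv_eq h.1 (map_mem C φ hd)
    have k' : d * φ d * d * (φ d * d * φ d) = 1 := by
      rw [← k]; simp [pow_succ, mul_assoc]
    have e := eq_inv_of_mul_eq_one_left k'
    rw [map_mul, map_mul, map_inv, inv, hd2, he2]
    rw [mul_inv_rev, mul_inv_rev, hd2, he2] at e
    simpa [mul_assoc] using e.symm
  haveI : Fact (Nat.Prime 2) := ⟨Nat.prime_two⟩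
  obtain ⟨T, hT⟩ : ∃ T : Sylow 2 G, φ • T = T := by
    let σ : Equiv.Perm (Sylow 2 G) :=
      { toFun := fun T => φ • T
        invFun := fun T => φ • T
        left_inv := fun T => by show φ • φ • T = T; rw [smul_smul, hφ, one_smul]
        right_inv := fun T => by show φ • φ • T = T; rw [smul_smul, hφ, one_smul] }
    haveI := Fintype.ofFinite (Sylow 2 G)
    have hodd : ¬ 2 ∣ Fintype.card (Sylow 2 G) := by
      rw [← Nat.card_eq_fintype_card]
      exact not_dvd_card_sylow 2 G
    obtain ⟨T, hT⟩ := Equiv.Perm.exists_fixed_point_of_prime (p := 2) (n := 1) hodd (σ := σ)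
      (Equiv.ext fun T => by
        show φ • φ • T = T
        rw [smul_smul, hφ, one_smul])
    exact ⟨T, hT⟩
  have hTmem : ∀ {x}, x ∈ (T : Subgroup G) → φ x ∈ (T : Subgroup G) := by
    intro x hx
    have h' := congrArg (fun S : Sylow 2 G => (S : Subgroup G)) hT
    simp only [Sylow.pointwise_smul_def] at h'
    rw [← h']
    exact Subgroup.smul_mem_pointwise_smul x φ _ hx
  obtain ⟨a, -, M, -, -, -, -, -, hset⟩ := M22Thompson.shape C T
  have haT : a ∈ D ∧ a ∈ (T : Subgroup G) := by
    have := (Set.ext_iff.mp hset a).2 (Or.inl rfl)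
    exact this
  have plm : ∀ i < 21, M.pt (M22Thompson.pl i) ∈ perp D a := fun i hi => M.mem _ (M22Thompson.plane_pt hi)
  have img : ∀ {x}, x ∈ D → x ∈ (T : Subgroup G) → φ x = a ∨ ∃ i < 21, M.pt (M22Thompson.pl i) = φ x := by
    intro x hx hxT
    exact (Set.ext_iff.mp hset (φ x)).1 ⟨map_mem C φ hx, hTmem hxT⟩
  obtain ⟨e, he, hea⟩ := (img haT.1 haT.2).resolve_left (hno a haT.1)
  have hex : ∀ i, ∃ j, i < 21 → i ≠ e → j < 21 ∧ M.pt (M22Thompson.pl j) = φ (M.pt (M22Thompson.pl i)) := by
    intro i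
    by_cases hi : i < 21 ∧ i ≠ e
    · have hm := (Set.ext_iff.mp hset (M.pt (M22Thompson.pl i))).2 (Or.inr ⟨i, hi.1, rfl⟩)
      rcases img hm.1 hm.2 with k | ⟨j, hj, ej⟩
      · refine absurd ?_ hi.2
        have : M.pt (M22Thompson.pl i) = M.pt (M22Thompson.pl e) := ((congrArg φ k.symm).trans (inv _)).symm.trans hea.symm
        exact M22Thompson.pl_inj hi.1 he (M.inj _ _ (M22Thompson.plane_pt hi.1) (M22Thompson.plane_pt he) this)
      · exact ⟨j, fun _ _ => ⟨hj, ej⟩⟩
    · exact ⟨0, fun h1 h2 => absurd ⟨h1, h2⟩ hi⟩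
  choose σ hσ using hex
  have plne : ∀ {i j}, i < 21 → j < 21 → M.pt (M22Thompson.pl i) = M.pt (M22Thompson.pl j) → i = j :=
    fun {i j} hi hj k => M22Thompson.pl_inj hi hj (M.inj _ _ (M22Thompson.plane_pt hi) (M22Thompson.plane_pt hj) k)
  have σe : ∀ i < 21, i ≠ e → σ i ≠ e ∧ σ i ≠ i ∧ σ (σ i) = i := by
    intro i hi hie
    obtain ⟨hj, ej⟩ := hσ i hi hie
    have h1 : σ i ≠ e := fun k => (plm i hi).2.1 (φ.injective (ej.symm.trans ((congrArg (fun n => M.pt (M22Thompson.pl n)) k).trans hea)))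
    refine ⟨h1, fun k => hno _ (plm i hi).1 (by rw [← ej, k]), ?_⟩
    obtain ⟨hk, ek⟩ := hσ (σ i) hj h1
    refine plne hk hi ?_
    rw [ek, ej, inv]
  -- a line off `e` without two partners
  obtain ⟨k, hk, hke, hkp⟩ : ∃ k < 21, e ∉ line k ∧ ∀ i < 21, i ≠ e → i ∈ line k → σ i ∉ line k := by
    by_contra hbad
    push Not at hbad
    have hl := lines_ok
    simp only [List.all_eq_true, List.mem_range, Bool.and_eq_true, Bool.or_eq_true, Nat.beq_eq, Nat.ble_eq] at hl
    let K := (Finset.range 21).filter fun k => e ∉ line k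
    let S := (Finset.range 21).filter fun i => i ≠ e ∧ i < σ i
    have hK : 16 ≤ K.card := by
      have h' := avoid_ok
      simp only [List.all_eq_true, List.mem_range, Nat.ble_eq] at h'
      refine (h' e he).trans (le_of_eq ?_)
      show _ = (Multiset.filter _ (Multiset.range 21)).card
      rw [Multiset.range]
      rw [Multiset.filter_coe, Multiset.coe_card, List.countP_eq_length_filter]
      congr 1
      exact List.filter_congr fun x _ => by
        rw [Bool.eq_iff_iff]
        simp only [Bool.not_eq_true', List.any_eq_false, Nat.beq_eq, decide_eq_true_eq]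
        exact ⟨fun h he => h e he rfl, fun h x hx e' => h (e' ▸ hx)⟩
    have hS : S.card ≤ 10 := by
      have hd : Disjoint S (S.image σ) := by
        rw [Finset.disjoint_left]
        intro i hi hi'
        obtain ⟨j, hj, rfl⟩ := Finset.mem_image.mp hi'
        simp only [S, Finset.mem_filter, Finset.mem_range] at hi hj
        have := (σe j hj.1 hj.2.1).2.2
        omega
      have hsub : S ∪ S.image σ ⊆ (Finset.range 21).erase e := by
        intro i hi
        rcases Finset.mem_union.mp hi with hi | hi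
        · simp only [S, Finset.mem_filter, Finset.mem_range] at hi
          exact Finset.mem_erase.mpr ⟨hi.2.1, Finset.mem_range.mpr hi.1⟩
        · obtain ⟨j, hj, rfl⟩ := Finset.mem_image.mp hi
          simp only [S, Finset.mem_filter, Finset.mem_range] at hj
          exact Finset.mem_erase.mpr ⟨(σe j hj.1 hj.2.1).1, Finset.mem_range.mpr (hσ j hj.1 hj.2.1).1⟩
      have hc := Finset.card_le_card hsub
      rw [Finset.card_union_of_disjoint hd, Finset.card_image_of_injOn, Finset.card_erase_of_mem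
        (Finset.mem_range.mpr he), Finset.card_range] at hc
      · omega
      · intro i hi j hj k
        simp only [S, Finset.coe_filter, Finset.mem_range, Set.mem_setOf_eq] at hi hj
        rw [← (σe i hi.1 hi.2.1).2.2, k, (σe j hj.1 hj.2.1).2.2]
    have hg : ∀ k ∈ K, ∃ i ∈ S, i ∈ line k ∧ σ i ∈ line k := by
      intro k hk
      simp only [K, Finset.mem_filter, Finset.mem_range] at hk
      obtain ⟨i, hi, hie, h1, h2⟩ := hbad k hk.1 hk.2
      rcases lt_or_ge i (σ i) with hlt | hge
      · exact ⟨i, Finset.mem_filter.mpr ⟨Finset.mem_range.mpr hi, hie, hlt⟩, h1, h2⟩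
      · obtain ⟨a1, a2, a3⟩ := σe i hi hie
        exact ⟨σ i, Finset.mem_filter.mpr ⟨Finset.mem_range.mpr (hσ i hi hie).1, a1, by omega⟩, h2, a3.symm ▸ h1⟩
    choose g hgS hg1 hg2 using hg
    have hle : K.card ≤ S.card := by
      refine Finset.card_le_card_of_injOn (fun k => if h : k ∈ K then g k h else 0) (fun k hk => ?_) ?_
      · simpa [Finset.mem_coe.mp hk] using hgS k hk
      · intro k hk l hl' hkl
        simp only [Finset.mem_coe.mp hk, Finset.mem_coe.mp hl', dite_true] at hkl
        by_contra hne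
        have hS' := hgS k hk
        simp only [S, Finset.mem_filter, Finset.mem_range] at hS'
        have hk21 := Finset.mem_range.mp (Finset.mem_filter.mp (Finset.mem_coe.mp hk)).1
        have hl21 := Finset.mem_range.mp (Finset.mem_filter.mp (Finset.mem_coe.mp hl')).1
        have hcnt := ((hl k hk21).2 l hl21).resolve_left hne
        have e1 : g k hk ∈ (line k).filter fun i => (line l).any (Nat.beq i) :=
          List.mem_filter.mpr ⟨hg1 k hk, List.any_eq_true.mpr ⟨_, hkl ▸ hg1 l hl', Nat.beq_refl _⟩⟩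
        have e2 : σ (g k hk) ∈ (line k).filter fun i => (line l).any (Nat.beq i) :=
          List.mem_filter.mpr ⟨hg2 k hk, List.any_eq_true.mpr ⟨_, hkl ▸ hg2 l hl', Nat.beq_refl _⟩⟩
        rw [List.countP_eq_length_filter] at hcnt
        generalize (line k).filter (fun i => (line l).any (Nat.beq i)) = L at hcnt e1 e2
        rcases L with _ | ⟨p, _ | ⟨r, L⟩⟩
        · simp at e1
        · simp only [List.mem_singleton] at e1 e2
          exact (σe _ hS'.1 hS'.2.1).2.1 (e2.trans e1.symm)
        · simp at hcnt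
    omega
  -- the outside point of the line and its image
  have hl := lines_ok
  simp only [List.all_eq_true, List.mem_range, Bool.and_eq_true, beq_iff_eq, Bool.not_eq_true'] at hl
  obtain ⟨⟨hop, hline⟩, -⟩ := hl k hk
  obtain ⟨y, hydef⟩ : ∃ y, y = M.pt (out k) := ⟨_, rfl⟩
  have hy : y ∈ perp D a := hydef ▸ M.mem _ hop
  have hcomm : ∀ i < 21, Commute y (M.pt (M22Thompson.pl i)) ↔ i ∈ line k := by
    intro i hi
    rw [hydef, M.comm _ _ hop (M22Thompson.plane_pt hi), (hline i hi).2, List.any_eq_true]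
    exact ⟨fun ⟨x, hx, k'⟩ => Nat.eq_of_beq_eq_true k' ▸ hx, fun hx => ⟨i, hx, Nat.beq_refl i⟩⟩
  have hz := map_mem C φ hy.1
  have hye : ¬ Commute (M.pt (M22Thompson.pl e)) y := fun k' => hke ((hcomm e he).1 k'.symm)
  have haz : ¬ Commute a (φ y) := fun k' => hye (by
    have := k'.map φ.toMonoidHom
    simp only [MulEquiv.coe_toMonoidHom, inv] at this
    rwa [hea])
  have hyz : y ∈ common D a (φ y) := ⟨hy, hy.1, fun k' => hno y hy.1 k'.symm, (com hy.1).symm⟩
  have hez : M.pt (M22Thompson.pl e) ∈ common D a (φ y) := by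
    refine ⟨plm e he, (plm e he).1, fun k' => hy.2.1 (φ.injective ?_), ?_⟩
    · rw [← k', hea]
    · have := (hy.2.2.map φ.toMonoidHom).symm
      simp only [MulEquiv.coe_toMonoidHom] at this
      rwa [hea]
  have hline' : ∀ i ∈ line k, i < 21 := by
    intro i hi
    have h5 : ((List.range 21).all fun k => (line k).all fun i => Nat.blt i 21) = true := by decide +kernel
    simp only [List.all_eq_true, List.mem_range, Nat.blt, Nat.ble_eq] at h5
    exact h5 k hk i hi
  have hzi : ∀ i ∈ line k, ¬ Commute (φ y) (M.pt (M22Thompson.pl i)) := by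
    intro i hi k'
    have hie : i ≠ e := fun q => hke (q ▸ hi)
    obtain ⟨hj, ej⟩ := hσ i (hline' i hi) hie
    have := k'.map φ.toMonoidHom
    simp only [MulEquiv.coe_toMonoidHom, inv, ← ej] at this
    exact hkp i (hline' i hi) hie hi ((hcomm _ hj).1 this)
  obtain ⟨p, q, hp, hq, hpq⟩ : ∃ p q, p ∈ line k ∧ q ∈ line k ∧ p ≠ q := by
    have h2 : ((List.range 21).all fun k => !(Nat.beq ((line k).getD 0 21) ((line k).getD 1 21)) &&
        Nat.ble 2 (line k).length) = true := by decide +kernel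
    simp only [List.all_eq_true, List.mem_range, Bool.and_eq_true, Bool.not_eq_true', Nat.ble_eq] at h2
    obtain ⟨h3, h4⟩ := h2 k hk
    rw [List.getD_eq_getElem _ _ (by omega), List.getD_eq_getElem _ _ (by omega)] at h3
    exact ⟨_, _, List.getElem_mem _, List.getElem_mem _, Nat.ne_of_beq_eq_false h3⟩
  have pc : ∀ i < 21, ∀ j < 21, Commute (M.pt (M22Thompson.pl i)) (M.pt (M22Thompson.pl j)) := fun i hi j hj =>
    (M.comm _ _ (M22Thompson.plane_pt hi) (M22Thompson.plane_pt hj)).2 (M22Thompson.plane_adj hi hj)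
  obtain ⟨x, hx, hxy, hxall⟩ := meet_standard C haT.1 hz haz hyz hez hye (plm p (hline' p hp)) (plm q (hline' q hq))
    (pc _ (hline' p hp) _ (hline' q hq)) (fun k' => hpq (plne (hline' p hp) (hline' q hq) k'))
    (hzi p hp) (hzi q hq) ((hcomm p (hline' p hp)).2 hp).symm (pc _ (hline' p hp) _ he)
    ((hcomm q (hline' q hq)).2 hq).symm (pc _ (hline' q hq) _ he)
  let P : Set G := {w | ∃ i < 21, M.pt (M22Thompson.pl i) = w}
  have hxP : x ∈ P := by
    by_contra hxn
    have hPc : P.ncard = 21 := by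
      have e1 : P = ↑((Finset.range 21).image fun i => M.pt (M22Thompson.pl i)) := by ext w; simp [P]
      rw [e1, Set.ncard_coe_finset, Finset.card_image_of_injOn, Finset.card_range]
      intro i hi j hj k'
      exact plne (Finset.mem_range.mp hi) (Finset.mem_range.mp hj) k'
    have hle := M22.clique_le C M (E := insert x P) ?_ ?_
    · rw [Set.ncard_insert_of_notMem hxn, hPc] at hle
      omega
    · rintro w (rfl | ⟨i, hi, rfl⟩)
      exacts [hx.1, plm i hi]
    · rintro w (rfl | ⟨i, hi, rfl⟩) w' (rfl | ⟨j, hj, rfl⟩)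
      exacts [Commute.refl _, (hxall _ (plm j hj) (pc _ hj _ (hline' p hp)) (pc _ hj _ (hline' q hq))).symm,
        hxall _ (plm i hi) (pc _ hi _ (hline' p hp)) (pc _ hi _ (hline' q hq)), pc _ hi _ hj]
  obtain ⟨i, hi, rfl⟩ := hxP
  exact hzi i ((hcomm i hi).1 hxy.symm) hx.2.2.2

end Cfsg.Agent.Fus.M22U.Fixed
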